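import Mathlib
import Cfsg.Agent.Helper36.TorD.Defs

/-!
# helper40: the Coxeter torus of `E₆(q)` (S2373) — shared definitions, Weyl group part

* `CoxLike M`, `WeylAlt M`: the polynomial alternatives satisfied by the elements of `W(E₆)` in the
  reflection representation on the torus coordinates (`wordM chevE6 w`).
* tables as lists of rows (`LL`), a fast multiplication `mmul`, the leaf test `leafOK` and the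
  enumeration `chk` of all `6`-tuples of roots with the Gram matrix of `E₆` and a given first row.
-/

set_option autoImplicit false

namespace Cfsg.Agent.Helper40.E6Tor

open Cfsg Cfsg.Lie Cfsg.Agent.Helper36.TorD

section Alt
variable {n : Type*} [Fintype n] [DecidableEq n]

/-- `Φ₁₂Φ₃(M) = 0`, `Φ₁₂(M) ≠ 0`, `Φ₃(M) ≠ 0` (`Φ₁₂Φ₃ = X⁶ + X⁵ - X³ + X + 1`) -/
def CoxLike (M : Matrix n n ℤ) : Prop :=
  M ^ 6 + M ^ 5 - M ^ 3 + M + 1 = 0 ∧ M ^ 4 - M ^ 2 + 1 ≠ 0 ∧ M ^ 2 + M + 1 ≠ 0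

/-- the alternatives for an element of `W(E₆)`: order dividing `8`, `9` or `10`, or killed by
`(X⁴ - 1)(X⁶ - 1) = X¹⁰ - X⁶ - X⁴ + 1`, or of Coxeter type -/
def WeylAlt (M : Matrix n n ℤ) : Prop :=
  M ^ 8 = 1 ∨ M ^ 9 = 1 ∨ M ^ 10 = 1 ∨ M ^ 10 - M ^ 6 - M ^ 4 + 1 = 0 ∨ CoxLike M

end Alt

/-! ### tables -/

/-- tables of integers (lists of rows) -/
abbrev LL := List (List ℤ)

/-- the matrix of a table -/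
def toMat (L : LL) : Matrix (Fin 6) (Fin 6) ℤ := fun i j => (L.getD i.val []).getD j.val 0

/-- the table of a matrix -/
def ofMat (M : Matrix (Fin 6) (Fin 6) ℤ) : LL := List.ofFn fun i => List.ofFn fun j => M i j

/-- well-formed `6 × 6` tables -/
def WF (L : LL) : Prop := L.length = 6 ∧ ∀ r ∈ L, r.length = 6

def dot : List ℤ → List ℤ → ℤ
  | [], _ => 0
  | _, [] => 0
  | x :: u, y :: v => x * y + dot u v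

def zero6 : List ℤ := [0, 0, 0, 0, 0, 0]

/-- `acc + x • r` -/
def axpy (x : ℤ) (r acc : List ℤ) : List ℤ := List.zipWith (fun y a => a + x * y) r acc

/-- row vector times table -/
def vecM (v : List ℤ) (B : LL) : List ℤ :=
  (List.zip v B).foldl (fun acc p => if p.1 = 0 then acc else axpy p.1 p.2 acc) zero6

/-- product of tables -/
def mmul (X Y : LL) : LL := X.map fun r => vecM r Y

def madd (X Y : LL) : LL := List.zipWith (List.zipWith (· + ·)) X Y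
def msub (X Y : LL) : LL := List.zipWith (List.zipWith (· - ·)) X Y

def I6 : LL := [[1,0,0,0,0,0],[0,1,0,0,0,0],[0,0,1,0,0,0],[0,0,0,1,0,0],[0,0,0,0,1,0],[0,0,0,0,0,1]]
def Z6 : LL := [[0,0,0,0,0,0],[0,0,0,0,0,0],[0,0,0,0,0,0],[0,0,0,0,0,0],[0,0,0,0,0,0],[0,0,0,0,0,0]]

/-- the leaf test: one of the alternatives of `WeylAlt` holds for the table `M` -/
def leafOK (M : LL) : Bool :=
  let M2 := mmul M M
  let M4 := mmul M2 M2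
  let M8 := mmul M4 M4
  if M8 = I6 then true else
  let M10 := mmul M8 M2
  if M10 = I6 then true else
  let M6 := mmul M4 M2
  if madd (msub (msub M10 M6) M4) I6 = Z6 then true else
  if mmul M8 M = I6 then true else
  let M3 := mmul M2 M
  let M5 := mmul M4 M
  (madd (madd (msub (madd M6 M5) M3) M) I6 = Z6) && (madd (msub M4 M2) I6 != Z6) &&
    (madd (madd M2 M) I6 != Z6)

def A6 : LL := [[2, 0, -1, 0, 0, 0], [0, 2, 0, -1, 0, 0], [-1, 0, 2, -1, 0, 0], [0, -1, -1, 2, -1, 0], [0, 0, 0, -1, 2, -1], [0, 0, 0, 0, -1, 2]]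

def roots6 : LL := [[-1, -2, -2, -3, -2, -1],
  [-1, -1, -2, -3, -2, -1],
  [-1, -1, -2, -2, -2, -1],
  [-1, -1, -2, -2, -1, -1],
  [-1, -1, -2, -2, -1, 0],
  [-1, -1, -1, -2, -2, -1],
  [-1, -1, -1, -2, -1, -1],
  [-1, -1, -1, -2, -1, 0],
  [-1, -1, -1, -1, -1, -1],
  [-1, -1, -1, -1, -1, 0],
  [-1, -1, -1, -1, 0, 0],
  [-1, 0, -1, -1, -1, -1],
  [-1, 0, -1, -1, -1, 0],
  [-1, 0, -1, -1, 0, 0],
  [-1, 0, -1, 0, 0, 0],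
  [-1, 0, 0, 0, 0, 0],
  [0, -1, -1, -2, -2, -1],
  [0, -1, -1, -2, -1, -1],
  [0, -1, -1, -2, -1, 0],
  [0, -1, -1, -1, -1, -1],
  [0, -1, -1, -1, -1, 0],
  [0, -1, -1, -1, 0, 0],
  [0, -1, 0, -1, -1, -1],
  [0, -1, 0, -1, -1, 0],
  [0, -1, 0, -1, 0, 0],
  [0, -1, 0, 0, 0, 0],
  [0, 0, -1, -1, -1, -1],
  [0, 0, -1, -1, -1, 0],
  [0, 0, -1, -1, 0, 0],
  [0, 0, -1, 0, 0, 0],
  [0, 0, 0, -1, -1, -1],
  [0, 0, 0, -1, -1, 0],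
  [0, 0, 0, -1, 0, 0],
  [0, 0, 0, 0, -1, -1],
  [0, 0, 0, 0, -1, 0],
  [0, 0, 0, 0, 0, -1],
  [0, 0, 0, 0, 0, 1],
  [0, 0, 0, 0, 1, 0],
  [0, 0, 0, 0, 1, 1],
  [0, 0, 0, 1, 0, 0],
  [0, 0, 0, 1, 1, 0],
  [0, 0, 0, 1, 1, 1],
  [0, 0, 1, 0, 0, 0],
  [0, 0, 1, 1, 0, 0],
  [0, 0, 1, 1, 1, 0],
  [0, 0, 1, 1, 1, 1],
  [0, 1, 0, 0, 0, 0],
  [0, 1, 0, 1, 0, 0],
  [0, 1, 0, 1, 1, 0],
  [0, 1, 0, 1, 1, 1],
  [0, 1, 1, 1, 0, 0],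
  [0, 1, 1, 1, 1, 0],
  [0, 1, 1, 1, 1, 1],
  [0, 1, 1, 2, 1, 0],
  [0, 1, 1, 2, 1, 1],
  [0, 1, 1, 2, 2, 1],
  [1, 0, 0, 0, 0, 0],
  [1, 0, 1, 0, 0, 0],
  [1, 0, 1, 1, 0, 0],
  [1, 0, 1, 1, 1, 0],
  [1, 0, 1, 1, 1, 1],
  [1, 1, 1, 1, 0, 0],
  [1, 1, 1, 1, 1, 0],
  [1, 1, 1, 1, 1, 1],
  [1, 1, 1, 2, 1, 0],
  [1, 1, 1, 2, 1, 1],
  [1, 1, 1, 2, 2, 1],
  [1, 1, 2, 2, 1, 0],
  [1, 1, 2, 2, 1, 1],
  [1, 1, 2, 2, 2, 1],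
  [1, 1, 2, 3, 2, 1],
  [1, 2, 2, 3, 2, 1]]

def conjTab : List (List ℕ) := [[2, 0, 3, 1, 2, 3, 4, 3, 1, 2, 0, 3, 2, 5, 4, 3, 1],
  [1, 2, 0, 3, 1, 2, 3, 4, 3, 1, 2, 0, 3, 2, 5, 4, 3, 1],
  [2, 0, 3, 1, 2, 0, 3, 2, 4, 3, 1, 2, 0, 3, 2, 5, 4, 3, 1],
  [2, 0, 3, 1, 2, 3, 4, 3, 1, 2, 0, 3, 2, 4, 3, 1, 5, 4, 3, 1],
  [2, 0, 3, 1, 2, 3, 4, 5, 4, 3, 1, 2, 0, 3, 2, 4, 3, 1, 5, 4, 3],
  [2, 0, 4, 3, 1, 2, 3, 5, 4, 3, 1, 2, 0, 3, 2],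
  [2, 0, 3, 1, 2, 3, 5, 4, 3, 1, 2, 0, 3, 2],
  [2, 0, 3, 1, 2, 3, 4, 3, 1, 2, 0, 3, 2],
  [2, 0, 3, 1, 2, 0, 3, 5, 4, 3, 1, 2, 0, 3, 2],
  [2, 0, 3, 1, 2, 0, 3, 4, 3, 1, 2, 0, 3, 2],
  [2, 0, 3, 1, 2, 3, 4, 3, 1, 2, 0, 3, 2, 4, 3],
  [1, 2, 0, 3, 1, 2, 0, 3, 5, 4, 3, 1, 2, 0, 3, 2],
  [1, 2, 0, 3, 1, 2, 0, 3, 4, 3, 1, 2, 0, 3, 2],
  [1, 2, 0, 3, 1, 2, 3, 4, 3, 1, 2, 0, 3, 2, 4, 3],
  [2, 0, 3, 1, 2, 0, 3, 2, 4, 3, 1, 2, 0, 3, 2, 4, 3],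
  [],
  [4, 3, 1, 5, 4, 3],
  [3, 1, 5, 4, 3],
  [3, 1, 4, 3],
  [1, 5, 4, 3],
  [1, 4, 3],
  [1, 3],
  [5, 4, 3, 1],
  [4, 3, 1],
  [3, 1],
  [1],
  [5, 4, 3],
  [4, 3],
  [3],
  [],
  [1, 5, 4, 3, 1],
  [1, 4, 3, 1],
  [1, 3, 1],
  [3, 1, 5, 4, 3, 1],
  [3, 1, 4, 3, 1],
  [4, 3, 1, 5, 4, 3, 1],
  [4, 3, 1, 5, 4, 3],
  [3, 1, 4, 3],
  [3, 1, 5, 4, 3],
  [1, 3],
  [1, 4, 3],
  [1, 5, 4, 3],
  [],
  [3],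
  [4, 3],
  [5, 4, 3],
  [],
  [3],
  [4, 3],
  [5, 4, 3],
  [1, 3],
  [1, 4, 3],
  [1, 5, 4, 3],
  [3, 1, 4, 3],
  [3, 1, 5, 4, 3],
  [4, 3, 1, 5, 4, 3],
  [],
  [2, 0, 3, 1, 2, 0, 3, 2, 4, 3, 1, 2, 0, 3, 2, 4, 3],
  [1, 2, 0, 3, 1, 2, 3, 4, 3, 1, 2, 0, 3, 2, 4, 3],
  [1, 2, 0, 3, 1, 2, 0, 3, 4, 3, 1, 2, 0, 3, 2],
  [1, 2, 0, 3, 1, 2, 0, 3, 5, 4, 3, 1, 2, 0, 3, 2],
  [2, 0, 3, 1, 2, 3, 4, 3, 1, 2, 0, 3, 2, 4, 3],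
  [2, 0, 3, 1, 2, 0, 3, 4, 3, 1, 2, 0, 3, 2],
  [2, 0, 3, 1, 2, 0, 3, 5, 4, 3, 1, 2, 0, 3, 2],
  [2, 0, 3, 1, 2, 3, 4, 3, 1, 2, 0, 3, 2],
  [2, 0, 3, 1, 2, 3, 5, 4, 3, 1, 2, 0, 3, 2],
  [2, 0, 4, 3, 1, 2, 3, 5, 4, 3, 1, 2, 0, 3, 2],
  [2, 0, 3, 1, 2, 3, 5, 4, 3, 1, 2, 0, 3, 2, 4, 3, 1, 5, 4, 3],
  [2, 0, 3, 1, 2, 3, 4, 3, 1, 2, 0, 3, 2, 4, 3, 1, 5, 4, 3],
  [2, 0, 3, 1, 2, 0, 3, 2, 4, 3, 1, 2, 0, 3, 2, 5, 4, 3],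
  [1, 2, 0, 3, 1, 2, 3, 4, 3, 1, 2, 0, 3, 2, 5, 4, 3],
  [2, 0, 3, 1, 2, 3, 4, 3, 1, 2, 0, 3, 2, 5, 4, 3]]


/-- `b ↦ b A` -/
def Ar (b : List ℤ) : List ℤ := vecM b A6

/-- the invariant form -/
def ip (b c : List ℤ) : ℤ := dot (Ar b) c

/-- `3 ω₁` in the basis of the fundamental roots -/
def wv : List ℤ := [4, 3, 5, 6, 4, 2]

/-- the condition `Σ_i w_i row_i ≡ w (mod 3)` (satisfied by `W`, not by `-W`) -/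
def mod3OK (M : LL) : Bool :=
  (List.zipWith (fun a b => (a - b) % 3 == 0) (vecM wv M) wv).all id

/-- the Gram matrix of the rows is the Cartan matrix -/
def gramOK (M : LL) : Bool :=
  (List.range 6).all fun i => (List.range 6).all fun j =>
    ip (M.getD i []) (M.getD j []) == (A6.getD i []).getD j 0

/-- all `6`-tuples of roots with first row `b1`, Gram matrix `A6` and `mod3OK` pass the leaf test
(rows are chosen in the order `1, 3, 4, 2, 5, 6` of the Dynkin diagram) -/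
def chk (b1 : List ℤ) : Bool :=
  let a1 := Ar b1
  roots6.all fun b3 => if dot a1 b3 != -1 then true else
  let a3 := Ar b3
  roots6.all fun b4 => if dot a3 b4 != -1 || dot a1 b4 != 0 then true else
  let a4 := Ar b4
  roots6.all fun b2 => if dot a4 b2 != -1 || dot a1 b2 != 0 || dot a3 b2 != 0 then true else
  let a2 := Ar b2
  roots6.all fun b5 => if dot a4 b5 != -1 || dot a1 b5 != 0 || dot a3 b5 != 0 || dot a2 b5 != 0 then true else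
  let a5 := Ar b5
  roots6.all fun b6 => if dot a5 b6 != -1 || dot a1 b6 != 0 || dot a3 b6 != 0 || dot a2 b6 != 0 ||
      dot a4 b6 != 0 then true else
  let M := [b1, b2, b3, b4, b5, b6]
  if mod3OK M then leafOK M else true

/-- representatives of the orbits of the stabiliser of `α₁` on the roots -/
def reps : LL := [[1,0,0,0,0,0], [-1,0,0,0,0,0], [0,0,1,0,0,0], [0,0,-1,0,0,0], [0,1,0,0,0,0]]

/-- the representative of the orbit of `b` (by its product with `α₁`) -/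
def repOf (b : List ℤ) : List ℤ :=
  let c := ip [1,0,0,0,0,0] b
  if c = 2 then [1,0,0,0,0,0] else if c = -2 then [-1,0,0,0,0,0] else if c = -1 then [0,0,1,0,0,0]
  else if c = 1 then [0,0,-1,0,0,0] else [0,1,0,0,0,0]

end Cfsg.Agent.Helper40.E6Tor
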