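import Cfsg.Agent.Helper36.TorD.Defs
import Cfsg.Agent.Helper19.Cox.DataE6

/-!
# helper40 (S2373, `E₆` Coxeter torus): the table checks for `E₆` (analogue of helper37's `TAB4`)
-/

set_option autoImplicit false
set_option maxRecDepth 100000

namespace Cfsg.Agent.Helper40.E6Tor

open Cfsg Cfsg.Lie Cfsg.Agent.Helper18 Cfsg.Agent.Helper19.Cox Cfsg.Agent.Helper19.Poinc
  Cfsg.Agent.Helper80.Tor Cfsg.Agent.Helper36.TorD

/-- the reflection matrices of `E₆` are involutions -/
theorem refSq_E6 : RefSq chevE6 := by
  unfold RefSq
  decide +kernel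

/-- the matrix form of the braid relations -/
theorem liftable_aux_E6 : ∀ i i' : Fin chevE6.rank,
    (refM chevE6 i.val * refM chevE6 i'.val) ^ (certE6.M i i') = 1 := by
  decide +kernel

/-- the reflection matrices satisfy the Coxeter relations of `E₆` -/
theorem liftable_E6 : certE6.M.IsLiftable (refU chevE6 refSq_E6) := by
  intro i i'
  apply Units.ext
  rw [Units.val_pow_eq_pow_val, Units.val_mul, Units.val_one]
  exact liftable_aux_E6 i i'

theorem cartanReflOK_E6 : cartanReflOK chevE6 = true := by
  decide +kernel

theorem charSepOK_E6 : charSepOK chevE6 = true := by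
  decide +kernel

theorem cartanNegOK_E6 : cartanNegOK chevE6 = true := by
  decide +kernel

end Cfsg.Agent.Helper40.E6Tor
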