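import Cfsg.Agent.Helper40.E6Tor.Defs
import Cfsg.Agent.Helper40.E6Tor.Tab6
import Cfsg.Agent.Helper83.E6CTorus

/-!
# helper40: the Coxeter torus of `E₆(q)` (S2373) — shared definitions, group part

* `W6`, `rho6`, `rhoM`: the Weyl group of `E₆` (the Coxeter group of helper19's certificate) and its
  reflection representation on the torus coordinates.
* `wt27`, `tauT`: the torus of the simply connected group in helper83's model on the
  `27`-dimensional module (`x27GL`, `word27`, `G0`).
* `hWordAll`, `nWordAll`: the words of root elements giving the torus elements and the lifts of the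
  Weyl group elements (in the adjoint group and in the `27`-dimensional model).
* `SCData`: what the simply connected model delivers for the descent.
-/

set_option autoImplicit false

namespace Cfsg.Agent.Helper40.E6Tor

open Cfsg Cfsg.Lie Cfsg.Agent.Helper18 Cfsg.Agent.Helper19.Cox Cfsg.Agent.Helper19.Poinc
  Cfsg.Agent.Helper80.Tor Cfsg.Agent.Helper36.TorD Cfsg.Agent.Helper83.E6C

/-- the Weyl group of `E₆` -/
abbrev W6 : Type := certE6.M.Group

/-- the reflection representation of `W(E₆)` on the torus coordinates -/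
noncomputable def rho6 : W6 →* (Matrix (Fin 6) (Fin 6) ℤ)ˣ := rhoHom chevE6 certE6 refSq_E6 liftable_E6

/-- the matrix of an element of `W(E₆)` -/
noncomputable def rhoM (s : W6) : Matrix (Fin 6) (Fin 6) ℤ := ((rho6 s : (Matrix (Fin 6) (Fin 6) ℤ)ˣ) : Matrix (Fin 6) (Fin 6) ℤ)

/-- the coordinates `⟨a, α_i^∨⟩` of the weight `a` of the `27`-dimensional module -/
def wt27 (a : I27) (i : ℕ) : ℤ :=
  if upper (chevE6.simple i) a then 1 else if upper (chevE6.neg (chevE6.simple i)) a then -1 else 0

/-- the values of the `27` weights on `∏ h_{α_i}(c_i)` -/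
def tauChar27 (K : Type*) [Field K] : (Fin 6 → Kˣ) →* (I27 → Kˣ) where
  toFun c a := ∏ i : Fin 6, c i ^ wt27 a i.val
  map_one' := by funext a; simp
  map_mul' := by intro c c'; funext a; simp [mul_zpow, Finset.prod_mul_distrib]

/-- the torus of the simply connected group on the `27`-dimensional module -/
def tauT (K : Type*) [Field K] : (Fin 6 → Kˣ) →* GL I27 K :=
  (Units.map (Matrix.diagonalRingHom I27 K).toMonoidHom).comp
    ((MulEquiv.piUnits (ι := I27) (M := fun _ => K)).symm.toMonoidHom.comp (tauChar27 K))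

theorem tauT_val {K : Type*} [Field K] (c : Fin 6 → Kˣ) :
    ((tauT K c : GL I27 K) : Matrix I27 I27 K) =
      Matrix.diagonal (fun a => ((tauChar27 K c a : Kˣ) : K)) := rfl

/-- the word of root elements of `∏ h_{α_i}(c_i)` -/
def hWordAll {K : Type*} [Field K] (c : Fin 6 → Kˣ) : List (ℕ × K) :=
  (List.range 6).flatMap fun i => chevE6.hWord (chevE6.simple i) (extendUnits 6 c i)

/-- the word of root elements of `n_{i₁} n_{i₂} ⋯` -/
def nWordAll (K : Type*) [Field K] (w : List ℕ) : List (ℕ × K) :=
  w.flatMap fun i => chevE6.nWord (chevE6.simple i) (1 : K)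

/-- the inverse word -/
def invWord {K : Type*} [Field K] (w : List (ℕ × K)) : List (ℕ × K) :=
  (w.map fun p => (p.1, -p.2)).reverse

universe u v

/-- What the simply connected model delivers: a central extension `π : Gt → E₆(K)` with a Frobenius
`σt`, an injective torus `τt` lifting `torusHom`, lifts `nt w` of the Weyl group elements, the kernel
of `π` inside the torus, and descent to `E₆(F)` of the `σt`-fixed elements. -/
structure SCData (F : Type u) (K : Type v) [Field F] [Fintype F] [Field K] [Algebra F K] where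
  Gt : Type v
  grp : Group Gt
  π : Gt →* GL chevE6.Idx K
  σt : Gt →* Gt
  τt : (Fin 6 → Kˣ) →* Gt
  nt : List ℕ → Gt
  hπsurj : ∀ g ∈ chevE6.group K, ∃ g' : Gt, π g' = g
  hπσ : ∀ g' : Gt, π (σt g') = sigmaGL chevE6.Idx F K (π g')
  hπτ : ∀ c : Fin 6 → Kˣ, π (τt c) = torusHom chevE6 K c
  hπn : ∀ w : List ℕ, (∀ i ∈ w, i < 6) → π (nt w) = nWordsGL chevE6 K w
  hτinj : Function.Injective τt
  hστ : ∀ c : Fin 6 → Kˣ, σt (τt c) = τt (c ^ Fintype.card F)
  hker : ∀ g' : Gt, π g' = 1 → ∃ k : Fin 6 → Kˣ, torusHom chevE6 K k = 1 ∧ g' = τt k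
  hnt : ∀ (w : List ℕ) (c : Fin 6 → Kˣ), (∀ i ∈ w, i < 6) →
    nt w * τt c * (nt w)⁻¹ = τt (zact (wordM chevE6 w.reverse) c)
  hdesc : ∀ g' : Gt, σt g' = g' → ∃ z ∈ chevE6.group F, iotaGL chevE6.Idx F K z = π g'
  hlift : ∀ z ∈ chevE6.group F, ∃ g' : Gt, π g' = iotaGL chevE6.Idx F K z ∧ σt g' = g'

attribute [instance] SCData.grp

end Cfsg.Agent.Helper40.E6Tor
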